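import Groth.Agent.TorRise7.Scheme
import Groth.Agent.PerfGen7.RelTor.PerfectMor
import Groth.Agent.KFlatLib.Perfect.Criterion
import Groth.Agent.KFlatLib.Perfect.Tensor
import Groth.Agent.S4275

/-!
# Perfection from pseudo-coherence and finite tor dimension
-/

set_option linter.style.haveILetI false
set_option backward.isDefEq.respectTransparency false

universe u

open CategoryTheory CategoryTheory.Limits AlgebraicGeometry TopologicalSpace

attribute [local instance] HasDerivedCategory.standard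

namespace Groth.Agent.TorRise7

open Groth.Agent.KFlatLib Groth.Agent.H9Misc Groth.Agent.PerfGen7 Groth.Agent.PerfGen7.RelTor

variable {X : Scheme.{u}}

/-- Perfect is pseudo-coherent and locally of finite tor amplitude. -/
theorem isPerfect_iff_pc_torAmplitude (F : CochainComplex X.Modules ℤ) :
    DCoh.IsPerfect (DCoh.toD X F) ↔
      (∀ m, DCoh.IsPseudoCoherentD m (DCoh.toD X F)) ∧ DerSch.LocFiniteTorAmplitude (𝟙 X) F := by
  refine ⟨fun h => ⟨fun m => (KFlatLib.isPseudoCoherentD_iff m _).2 (((KFlatLib.isPerfect_iff _).1 h).locPC m),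
    locFiniteTorAmplitude_id_of_isPerfect h⟩, fun ⟨hpc, htor⟩ => (KFlatLib.isPerfect_iff _).2 fun x => ?_⟩
  obtain ⟨V, a, b, hx, hV⟩ := htor x
  have hflat := flatAmplitude_restrict_of_torAmplitudeAt_id V (a := a) (b := max a b) fun y hy =>
    torAmplitudeAt_mono _ le_rfl (le_max_right a b) (hV y hy)
  have hloc : LocPC (a - 1) (DCoh.toD (V : Scheme.{u}) ((rCx V.ι).obj F)) :=
    (((KFlatLib.isPseudoCoherentD_iff _ _).1 (hpc (a - 1))).restrict V.ι).of_iso ((rhoQ V.ι).app F)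
  obtain ⟨U, j, _, ⟨u, hu⟩, P, hP, ⟨e⟩⟩ := locSP_of_flat_pc (le_max_left a b) hflat hloc ⟨x, hx⟩
  exact ⟨U, j ≫ V.ι, inferInstance, ⟨u, by rw [Scheme.Hom.comp_apply, hu]; rfl⟩, P, hP,
    ⟨e ≪≫ (rho j).mapIso ((rhoQ V.ι).app F).symm ≪≫ rhoComp j V.ι _ rfl _⟩⟩

/-- A perfect amplitude gives pointwise tor amplitude. -/
theorem torAmplitude_id_of_perfectAmplitude {F : CochainComplex X.Modules ℤ} {a b : ℤ}
    (h : KSix.HasPerfectAmplitudeIn a b (DCoh.toD X F)) : DerSch.HasTorAmplitude (𝟙 X) a b F := fun x => by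
  obtain ⟨V, hx, hV⟩ := h x
  obtain ⟨P, hz, hf, ⟨e⟩⟩ := hV F ⟨Iso.refl _⟩
  exact torAmplitudeAt_id_of_restrict V.ι ⟨P, hz, fun i => isFlat_of_isFinLocFree (hf i), ⟨e.symm⟩⟩ ⟨x, hx⟩

/-- A perfect amplitude gives pseudo-coherence. -/
theorem isPseudoCoherentD_of_perfectAmplitude {E : DCoh.D X} {a b : ℤ}
    (h : KSix.HasPerfectAmplitudeIn a b E) (m : ℤ) : DCoh.IsPseudoCoherentD m E := by
  refine (KFlatLib.isPseudoCoherentD_iff m E).2 (LocSP.locPC ((KFlatLib.isPerfect_iff E).1 fun x => ?_) m)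
  obtain ⟨V, hx, hV⟩ := h x
  refine ⟨V, hx, fun F hF => ?_⟩
  obtain ⟨P, hz, hf, ⟨e⟩⟩ := hV F hF
  exact ⟨P, ⟨⟨a, b, hz⟩, hf⟩, ⟨e⟩⟩

/-- Perfect amplitude from pseudo-coherence and tor amplitude. -/
theorem perfectAmplitude_of_pc {F : CochainComplex X.Modules ℤ} {a b : ℤ}
    (hpc : DCoh.IsPseudoCoherentD (a - 1) (DCoh.toD X F)) (h : DerSch.HasTorAmplitude (𝟙 X) a b F) :
    KSix.HasPerfectAmplitudeIn a b (DCoh.toD X F) := by
  rcases le_or_gt a b with hab | hab
  · exact (S4275.result X _ a b hab).2 ⟨hpc, (flatAmplitude_iff_torAmplitude_id F a b).2 h⟩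
  · obtain ⟨E, hz, -, ⟨e⟩⟩ := (flatAmplitude_iff_torAmplitude_id F a b).2 h
    refine fun x => ⟨⊤, trivial, fun G ⟨eG⟩ => ⟨(rCx (⊤ : X.Opens).ι).obj E,
      fun i hi => (Scheme.Modules.restrictFunctor _).map_isZero (hz i hi),
      fun i => isFinLocFree_of_isZero ((Scheme.Modules.restrictFunctor _).map_isZero (hz i (by omega))), ⟨?_⟩⟩⟩
    exact ((rhoQ (⊤ : X.Opens).ι).app G).symm ≪≫ (rho _).mapIso (eG ≪≫ e.symm) ≪≫
      (rhoQ (⊤ : X.Opens).ι).app E

section Push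

variable {W Y : Scheme.{u}} (i : X ⟶ W) [IsClosedImmersion i] (f : W ⟶ Y)

/-- Relative tor amplitude from the absolute one of the pushforward. -/
theorem torAmplitude_of_push [Flat f] (F : CochainComplex X.Modules ℤ) {a b : ℤ}
    (h : DerSch.HasTorAmplitude (𝟙 W) a b
      (((Scheme.Modules.pushforward i).mapHomologicalComplex (ComplexShape.up ℤ)).obj F)) :
    DerSch.HasTorAmplitude (i ≫ f) a b F := fun x =>
  (torAmplitudeAt_push_iff i f F a b x).2 (torAmplitudeAt_of_id f _ (h _))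

/-- Absolute tor amplitude of the pushforward from the relative one. -/
theorem torAmplitude_push (d : ℕ)
    (hd : ∀ w : W, ∃ (n : ℕ) (V : W.Opens), n ≤ d ∧ w ∈ V ∧ SmoothOfRelativeDimension n (V.ι ≫ f))
    (F : CochainComplex X.Modules ℤ) {a b : ℤ} (h : DerSch.HasTorAmplitude (i ≫ f) a b F) :
    DerSch.HasTorAmplitude (𝟙 W) (a - d) b
      (((Scheme.Modules.pushforward i).mapHomologicalComplex (ComplexShape.up ℤ)).obj F) := fun w => by
  by_cases hw : w ∈ Set.range i.base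
  · obtain ⟨x, rfl⟩ := hw
    obtain ⟨n, V, hnd, hxV, hV⟩ := hd (i x)
    haveI := hV
    exact torAmplitudeAt_mono _ (by omega) le_rfl
      (torAmplitudeAt_id_of_smooth_nhd f V n _ hxV ((torAmplitudeAt_push_iff i f F a b x).1 (h x)))
  · exact torAmplitudeAt_push_of_not_mem i (𝟙 W) F _ _ w hw

/-- Locally finite relative tor amplitude, read on the pushforward. -/
theorem locFiniteTorAmplitude_push_iff [Smooth f] (F : CochainComplex X.Modules ℤ) :
    DerSch.LocFiniteTorAmplitude (i ≫ f) F ↔ DerSch.LocFiniteTorAmplitude (𝟙 W)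
      (((Scheme.Modules.pushforward i).mapHomologicalComplex (ComplexShape.up ℤ)).obj F) := by
  haveI : Flat f := inferInstance
  constructor
  · intro h w
    by_cases hw : w ∈ Set.range i.base
    · obtain ⟨x, rfl⟩ := hw
      obtain ⟨V₀, a, b, hx, hV₀⟩ := h x
      obtain ⟨O, hO, hOV⟩ := i.isClosedEmbedding.isInducing.isOpen_iff.1 V₀.2
      obtain ⟨V₁, n, hxV₁, hV₁⟩ := exists_nhd_torAmplitudeAt_id f (i x)
      refine ⟨⟨O, hO⟩ ⊓ V₁, a - n, b, ⟨(Set.ext_iff.1 hOV x).2 hx, hxV₁⟩, fun y hy => ?_⟩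
      by_cases hyr : y ∈ Set.range i.base
      · obtain ⟨x', rfl⟩ := hyr
        exact hV₁ _ _ hy.2 ((torAmplitudeAt_push_iff i f F a b x').1
          (hV₀ x' ((Set.ext_iff.1 hOV x').1 hy.1)))
      · exact torAmplitudeAt_push_of_not_mem i (𝟙 W) F _ _ y hyr
    · exact ⟨⟨(Set.range i.base)ᶜ, i.isClosedEmbedding.isClosed_range.isOpen_compl⟩, 0, 0, hw,
        fun y hy => torAmplitudeAt_push_of_not_mem i (𝟙 W) F _ _ y hy⟩
  · intro h x
    obtain ⟨V, a, b, hx, hV⟩ := h (i x)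
    exact ⟨i ⁻¹ᵁ V, a, b, hx, fun y hy =>
      (torAmplitudeAt_push_iff i f F a b y).2 (torAmplitudeAt_of_id f _ (hV _ hy))⟩

end Push

end Groth.Agent.TorRise7
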