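import Groth.Agent.TorRise7.Ring
import Groth.Agent.PerfGen7.RelTor.Abs
import Groth.Agent.KFlatLib.Scheme.ClosedPush
import Groth.Agent.QCoh.Support
import Mathlib.AlgebraicGeometry.Morphisms.Smooth
import Mathlib.AlgebraicGeometry.Morphisms.Flat

/-!
# Tor amplitude relative to a smooth morphism against the absolute one
-/

set_option linter.style.haveILetI false
set_option backward.isDefEq.respectTransparency false

universe u

open CategoryTheory CategoryTheory.Limits AlgebraicGeometry TopologicalSpace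

attribute [local instance] HasDerivedCategory.standard

namespace Groth.Agent.TorRise7

open Groth.Agent.KFlatLib Groth.Agent.H9Misc Groth.Agent.PerfGen7 Groth.Agent.PerfGen7.RelTor

variable {X W Y : Scheme.{u}}

/-- Absolute tor amplitude at a point is tor amplitude of the stalk. -/
theorem torAmplitudeAt_id_iff (G : CochainComplex W.Modules ℤ) (a b : ℤ) (z : W) :
    DerSch.HasTorAmplitudeAt (𝟙 W) a b G z ↔
      DRing.HasTorAmplitudeIn (W.presheaf.stalk z) a b (DerivedCategory.Q.obj ((stalkCx z).obj G)) := by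
  have hb : Function.Bijective (((𝟙 W : W ⟶ W).stalkMap z).hom) :=
    ConcreteCategory.bijective_of_isIso ((𝟙 W : W ⟶ W).stalkMap z)
  exact ⟨fun h => torAmp_of_bijective _ hb (torAmp_of_iso (DerivedCategory.Q.mapIso (stalkCxOverIso (𝟙 W) z G)) h),
    fun h => torAmp_of_iso (DerivedCategory.Q.mapIso (stalkCxOverIso (𝟙 W) z G).symm)
      (torAmp_res_of_bijective _ hb h)⟩

/-- Absolute tor amplitude gives relative tor amplitude for a flat morphism. -/
theorem torAmplitudeAt_of_id (g : W ⟶ Y) [Flat g] (G : CochainComplex W.Modules ℤ) {a b : ℤ} {z : W}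
    (h : DerSch.HasTorAmplitudeAt (𝟙 W) a b G z) : DerSch.HasTorAmplitudeAt g a b G z :=
  torAmp_of_iso (DerivedCategory.Q.mapIso (stalkCxOverIso g z G).symm)
    (TorAmpBC.res_flat _ (Flat.stalkMap g z) ((torAmplitudeAt_id_iff G a b z).1 h))

/-- On a standard smooth chart, relative tor amplitude gives absolute tor amplitude. -/
theorem torAmplitudeAt_id_of_chart (g : W ⟶ Y) {U : Y.Opens} (hU : IsAffineOpen U) {V : W.Opens}
    (hV : IsAffineOpen V) (e : V ≤ g ⁻¹ᵁ U) {n : ℕ}
    (hn : (g.appLE U V e).hom.IsStandardSmoothOfRelativeDimension n)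
    (G : CochainComplex W.Modules ℤ) {a b : ℤ} {z : W} (hz : z ∈ V)
    (h : DerSch.HasTorAmplitudeAt g a b G z) : DerSch.HasTorAmplitudeAt (𝟙 W) (a - n) b G z := by
  rw [torAmplitudeAt_id_iff]
  have hgz : g z ∈ U := e hz
  letI : Algebra Γ(Y, U) Γ(W, V) := (g.appLE U V e).hom.toAlgebra
  haveI : Algebra.IsStandardSmoothOfRelativeDimension n Γ(Y, U) Γ(W, V) := hn
  letI : Algebra Γ(W, V) (W.presheaf.stalk z) := TopCat.Presheaf.algebra_section_stalk W.presheaf ⟨z, hz⟩
  haveI := hV.isLocalization_stalk ⟨z, hz⟩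
  letI : Algebra Γ(Y, U) (Y.presheaf.stalk (g z)) := TopCat.Presheaf.algebra_section_stalk Y.presheaf ⟨g z, hgz⟩
  haveI := hU.isLocalization_stalk ⟨g z, hgz⟩
  have hc : Y.presheaf.germ U (g z) hgz ≫ g.stalkMap z = g.appLE U V e ≫ W.presheaf.germ V z hz := by
    rw [Scheme.Hom.germ_stalkMap, Scheme.Hom.appLE, Category.assoc, TopCat.Presheaf.germ_res]
  exact of_standardSmooth_localization (A := Γ(Y, U)) (B := Γ(W, V)) n (hV.primeIdealOf ⟨z, hz⟩).asIdeal.primeCompl
    (algebraMap Γ(Y, U) (Y.presheaf.stalk (g z)))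
    (RingHom.flat_algebraMap_iff.2 (IsLocalization.flat _ (hU.primeIdealOf ⟨g z, hgz⟩).asIdeal.primeCompl))
    (g.stalkMap z).hom (congrArg CommRingCat.Hom.hom hc) _
    (torAmp_of_iso (DerivedCategory.Q.mapIso (stalkCxOverIso g z G)) h)

/-- For a morphism smooth of relative dimension `n`. -/
theorem torAmplitudeAt_id_of_smoothOfRelativeDimension (g : W ⟶ Y) (n : ℕ) [SmoothOfRelativeDimension n g]
    (G : CochainComplex W.Modules ℤ) {a b : ℤ} {z : W}
    (h : DerSch.HasTorAmplitudeAt g a b G z) : DerSch.HasTorAmplitudeAt (𝟙 W) (a - n) b G z := by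
  obtain ⟨U, hU, V, hV, hz, e, hn⟩ :=
    SmoothOfRelativeDimension.exists_isStandardSmoothOfRelativeDimension (n := n) (f := g) z
  exact torAmplitudeAt_id_of_chart g hU hV e hn G hz h

/-- For a morphism smooth of relative dimension `n` near the point. -/
theorem torAmplitudeAt_id_of_smooth_nhd (g : W ⟶ Y) (V : W.Opens) (n : ℕ)
    [SmoothOfRelativeDimension n (V.ι ≫ g)] (G : CochainComplex W.Modules ℤ) {a b : ℤ} {z : W} (hz : z ∈ V)
    (h : DerSch.HasTorAmplitudeAt g a b G z) : DerSch.HasTorAmplitudeAt (𝟙 W) (a - n) b G z := by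
  have h1 := torAmplitudeAt_id_of_smoothOfRelativeDimension (V.ι ≫ g) n _
    (torAmplitudeAt_restrict g V.ι (⟨z, hz⟩ : V) h)
  exact torAmplitudeAt_unrestrict (𝟙 W) V.ι (⟨z, hz⟩ : V)
    (torAmplitudeAt_of_eq ((Category.id_comp V.ι).trans (Category.comp_id V.ι).symm)
      (torAmplitudeAt_comp_openImmersion (𝟙 (V : Scheme.{u})) V.ι h1))

/-- Near every point of a smooth morphism there is a bound on the dimension. -/
theorem exists_nhd_torAmplitudeAt_id (g : W ⟶ Y) [Smooth g] (z : W) :
    ∃ (V : W.Opens) (n : ℕ), z ∈ V ∧ ∀ (G : CochainComplex W.Modules ℤ) {a b : ℤ}, ∀ z' ∈ V,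
      DerSch.HasTorAmplitudeAt g a b G z' → DerSch.HasTorAmplitudeAt (𝟙 W) (a - n) b G z' := by
  obtain ⟨U, hU, V, hV, hz, e, hn⟩ := Smooth.exists_isStandardSmooth g z
  letI := (g.appLE U V e).hom.toAlgebra
  obtain ⟨ι, σ, _, _, ⟨P⟩⟩ := hn
  have hP : Algebra.IsStandardSmoothOfRelativeDimension P.dimension Γ(Y, U) Γ(W, V) := ⟨_, _, _, ‹_›, P, rfl⟩
  exact ⟨V, P.dimension, hz, fun G _ _ z' hz' h =>
    torAmplitudeAt_id_of_chart g hU hV e hP G hz' h⟩

section Push

variable (i : X ⟶ W) [IsClosedImmersion i]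

/-- The stalk of a pushforward along a closed immersion, with its action. -/
theorem stalkPush_map_smul (M : X.Modules) (x : X) (a : W.presheaf.stalk (i x))
    (m : ((Scheme.Modules.pushforward i).obj M).presheaf.stalk (i x)) :
    TopCat.Presheaf.stalkPushforward Ab.{u} i.base M.presheaf x (a • m) =
      (i.stalkMap x).hom a •
        (show M.presheaf.stalk x from TopCat.Presheaf.stalkPushforward Ab.{u} i.base M.presheaf x m) := by
  have he : ∀ (U : W.Opens) (hU : i x ∈ U) (v : Γ(M, i ⁻¹ᵁ U)),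
      TopCat.Presheaf.stalkPushforward Ab.{u} i.base M.presheaf x
        (((Scheme.Modules.pushforward i).obj M).presheaf.germ U (i x) hU v) = M.presheaf.germ (i ⁻¹ᵁ U) x hU v :=
    fun U hU v =>
      congrArg (fun φ => φ v) (TopCat.Presheaf.stalkPushforward_germ Ab.{u} i.base M.presheaf U x hU)
  obtain ⟨U, hU, b, rfl⟩ := W.presheaf.exists_germ_eq (x := i x) a
  obtain ⟨V, hV, v, rfl⟩ := ((Scheme.Modules.pushforward i).obj M).presheaf.germ_exist m
  have hW : i x ∈ U ⊓ V := ⟨hU, hV⟩
  rw [← W.presheaf.germ_res_apply (homOfLE inf_le_left : U ⊓ V ⟶ U) (i x) hW b,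
    ← ((Scheme.Modules.pushforward i).obj M).presheaf.germ_res_apply (homOfLE inf_le_right : U ⊓ V ⟶ V) (i x) hW v]
  generalize W.presheaf.map (homOfLE inf_le_left : U ⊓ V ⟶ U).op b = b'
  generalize ((Scheme.Modules.pushforward i).obj M).presheaf.map (homOfLE inf_le_right : U ⊓ V ⟶ V).op v = v'
  rw [← QCoh.germ_smul' ((Scheme.Modules.pushforward i).obj M) hW, he, he]
  refine (QCoh.germ_smul' M (show x ∈ i ⁻¹ᵁ (U ⊓ V) from hW) (i.app _ b') v').trans ?_
  exact congrArg (fun t => t • M.presheaf.germ (i ⁻¹ᵁ (U ⊓ V)) x hW v')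
    (Scheme.Hom.germ_stalkMap_apply i (U ⊓ V) x hW b').symm

/-- The stalk of a pushforward at a point of the image, as modules. -/
noncomputable def stalkPushModIso (x : X) :
    Scheme.Modules.pushforward i ⋙ DerSch.stalkFunctor W (i x) ≅
      DerSch.stalkFunctor X x ⋙ ModuleCat.restrictScalars (i.stalkMap x).hom :=
  NatIso.ofComponents (fun M => LinearEquiv.toModuleIso
      (R := W.presheaf.stalk (i x))
      (m₁ := ((DerSch.stalkFunctor W (i x)).obj ((Scheme.Modules.pushforward i).obj M)).isModule)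
      (m₂ := ((ModuleCat.restrictScalars (i.stalkMap x).hom).obj ((DerSch.stalkFunctor X x).obj M)).isModule)
      { ((stalkPushIso i x).app M).addCommGroupIsoToAddEquiv with
        map_smul' := fun a m => stalkPush_map_smul i M x a m })
    fun {M N} g => by
      apply ModuleCat.hom_ext
      refine LinearMap.ext fun m => ?_
      exact ConcreteCategory.congr_hom ((stalkPushIso i x).hom.naturality g) m

/-- The stalk complex of a pushforward at a point of the image. -/
noncomputable def stalkPushCxIso (x : X) (F : CochainComplex X.Modules ℤ) :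
    (stalkCx (i x)).obj (((Scheme.Modules.pushforward i).mapHomologicalComplex (ComplexShape.up ℤ)).obj F) ≅
      (((ModuleCat.restrictScalars (i.stalkMap x).hom).mapHomologicalComplex (ComplexShape.up ℤ)).obj
        ((stalkCx x).obj F)) :=
  HomologicalComplex.Hom.isoOfComponents (fun j => (stalkPushModIso i x).app (F.X j))
    (fun j k _ => ((stalkPushModIso i x).hom.naturality (F.d j k)).symm)

variable (f : W ⟶ Y)

/-- Relative tor amplitude of a complex, read on its pushforward. -/
theorem torAmplitudeAt_push_iff (F : CochainComplex X.Modules ℤ) (a b : ℤ) (x : X) :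
    DerSch.HasTorAmplitudeAt (i ≫ f) a b F x ↔
      DerSch.HasTorAmplitudeAt f a b
        (((Scheme.Modules.pushforward i).mapHomologicalComplex (ComplexShape.up ℤ)).obj F) (i x) := by
  have hc : (i.stalkMap x).hom.comp (f.stalkMap (i x)).hom = ((i ≫ f).stalkMap x).hom := by
    rw [Scheme.Hom.stalkMap_comp]; rfl
  let e := stalkCxOverIso (i ≫ f) x F ≪≫ TorAmpBC.resCompIso hc _ ≪≫
    ((ModuleCat.restrictScalars (f.stalkMap (i x)).hom).mapHomologicalComplex (ComplexShape.up ℤ)).mapIso
      (stalkPushCxIso i x F).symm ≪≫ (stalkCxOverIso f (i x) _).symm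
  exact ⟨torAmp_of_iso (DerivedCategory.Q.mapIso e), torAmp_of_iso (DerivedCategory.Q.mapIso e).symm⟩

/-- Outside the image every amplitude is allowed. -/
theorem torAmplitudeAt_push_of_not_mem (F : CochainComplex X.Modules ℤ) (a b : ℤ) (z : W)
    (hz : z ∉ Set.range i.base) :
    DerSch.HasTorAmplitudeAt f a b
      (((Scheme.Modules.pushforward i).mapHomologicalComplex (ComplexShape.up ℤ)).obj F) z := by
  refine DRingTor.of_isZero (Functor.map_isZero _ ((IsZero.iff_id_eq_zero _).2
    (HomologicalComplex.hom_ext _ _ fun j => IsZero.eq_of_src ?_ _ _)))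
  have h : IsZero ((DerSch.stalkFunctor W z).obj ((Scheme.Modules.pushforward i).obj (F.X j))) := by
    haveI := AddCommGrpCat.subsingleton_of_isZero (isZero_stalk_push i z hz (F.X j))
    exact @ModuleCat.isZero_of_subsingleton _ _ _ this
  exact (ModuleCat.restrictScalars (f.stalkMap z).hom).map_isZero h

end Push

end Groth.Agent.TorRise7
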