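import Groth.Agent.PerfGen7.TorAmpBC
import Groth.Agent.PerfGen7.RelTor.Bound
import Groth.Agent.H9Misc.DRingTorTriangle
import Groth.Agent.H9Misc.DRingTorDim
import Mathlib.RingTheory.Etale.Weakly
import Mathlib.RingTheory.RingHom.StandardSmooth

/-!
# Tor amplitude along smooth algebras
-/

set_option linter.style.haveILetI false
set_option backward.isDefEq.respectTransparency false

universe u

open CategoryTheory CategoryTheory.Limits MonoidalCategory TensorProduct Pretriangulated

attribute [local instance] HasDerivedCategory.standard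

namespace Groth.Agent.TorRise7

open Groth.Agent.KFlatLib Groth.Agent.H9Misc Groth.Agent.H9Misc.DRingLTensor
  Groth.Agent.PerfGen7.RelTor Groth.Agent.PerfGen7

variable {A B C : Type u} [CommRing A] [CommRing B] [CommRing C] {a b : ℤ}

/-- Restriction along the identity. -/
noncomputable def resIdIso {φ : B →+* B} (h : φ = RingHom.id B) (X : DRing.Cx B) : (resCx φ).obj X ≅ X :=
  HomologicalComplex.Hom.isoOfComponents (fun i => (ModuleCat.restrictScalarsId' φ h).app (X.X i))
    (fun i j _ => ((ModuleCat.restrictScalarsId' φ h).hom.naturality (X.d i j)).symm)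

/-- Extension along the identity. -/
noncomputable def extIdIso (X : DRing.Cx B) : (extC' (RingHom.id B)).obj X ≅ X :=
  HomologicalComplex.Hom.isoOfComponents (fun i => (ModuleCat.extendScalarsId B).app (X.X i))
    (fun i j _ => ((ModuleCat.extendScalarsId B).hom.naturality (X.d i j)).symm)

/-- Tor amplitude rises along weakly étale algebras. -/
theorem of_weaklyEtale [Algebra A B] [Algebra.WeaklyEtale A B] (X : DRing.Cx B)
    (h : DRing.HasTorAmplitudeIn A a b (DerivedCategory.Q.obj ((resCx (algebraMap A B)).obj X))) :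
    DRing.HasTorAmplitudeIn B a b (DerivedCategory.Q.obj X) := by
  have h1 := TorAmpBC.baseChange_flat (CommRingCat.isPushout_tensorProduct A B B)
    (RingHom.flat_algebraMap_iff.2 inferInstance) (Algebra.TensorProduct.lmul' (S := B) A).toRingHom
    (Algebra.WeaklyEtale.flat_lmul' A B) (γ := RingHom.id B)
    (RingHom.ext fun x => by simp) (θ := RingHom.id B) (RingHom.ext fun x => by simp) X h
  exact torAmp_of_iso (DerivedCategory.Q.mapIso (resIdIso rfl _ ≪≫ extIdIso X)) h1

section Monogenic

variable {P : Type u} [CommRing P]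

/-- The split exact sequence of a module over a monogenic free algebra. -/
theorem exists_split [Algebra A P] (x : P) (bs : Module.Basis ℕ A P) (hbs : ∀ n, bs n = x ^ n)
    (M : Type u) [AddCommGroup M] [Module P M] [Module A M] [IsScalarTower A P M]
    (f : P ⊗[A] M →ₗ[A] P ⊗[A] M) (ε : P ⊗[A] M →ₗ[A] M)
    (hf : ∀ (q : P) (m : M), f (q ⊗ₜ m) = (x * q) ⊗ₜ m - q ⊗ₜ (x • m))
    (hε : ∀ (q : P) (m : M), ε (q ⊗ₜ m) = q • m) :
    Function.Injective f ∧ Function.Exact f ε ∧ Function.Surjective ε := by
  let g : ℕ → M →ₗ[A] P ⊗[A] M := fun n => ∑ i ∈ Finset.range n,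
    (TensorProduct.mk A P M (x ^ i)).comp
      ((LinearMap.lsmul P M (x ^ (n - 1 - i))).restrictScalars A)
  let r : P ⊗[A] M →ₗ[A] P ⊗[A] M := TensorProduct.lift (bs.constr A g)
  let s : M →ₗ[A] P ⊗[A] M := TensorProduct.mk A P M 1
  have hr : ∀ (n : ℕ) (m : M), r ((x ^ n) ⊗ₜ m) =
      ∑ i ∈ Finset.range n, (x ^ i) ⊗ₜ[A] (x ^ (n - 1 - i) • m) := fun n m => by
    simp only [r, TensorProduct.lift.tmul]
    rw [← hbs n, Module.Basis.constr_basis]
    simp [g]
  have hext : ∀ (u v : P ⊗[A] M →ₗ[A] P ⊗[A] M),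
      (∀ n m, u ((x ^ n) ⊗ₜ m) = v ((x ^ n) ⊗ₜ m)) → u = v := fun u v huv => by
    refine TensorProduct.ext' fun q m => ?_
    have := bs.ext (f₁ := u.comp ((TensorProduct.mk A P M).flip m))
      (f₂ := v.comp ((TensorProduct.mk A P M).flip m)) fun n => by
        simpa [hbs n] using huv n m
    exact LinearMap.congr_fun this q
  have h1 : r ∘ₗ f = LinearMap.id := hext _ _ fun n m => by
    rw [LinearMap.comp_apply, LinearMap.id_apply, hf, map_sub, ← pow_succ', hr, hr,
      Finset.sum_range_succ, show n + 1 - 1 - n = 0 by omega, pow_zero, one_smul, sub_eq_iff_eq_add']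
    refine congrArg (· + _) (Finset.sum_congr rfl fun i hi => ?_)
    rw [Finset.mem_range] at hi
    rw [smul_smul, ← pow_succ, show n + 1 - 1 - i = n - 1 - i + 1 by omega]
  have h2 : f ∘ₗ r + s ∘ₗ ε = LinearMap.id := hext _ _ fun n m => by
    rw [LinearMap.add_apply, LinearMap.comp_apply, LinearMap.comp_apply, hr, hε, map_sum,
      LinearMap.id_apply]
    let G : ℕ → P ⊗[A] M := fun i => (x ^ i) ⊗ₜ[A] (x ^ (n - i) • m)
    rw [Finset.sum_congr rfl (g := fun i => G (i + 1) - G i) fun i hi => by
      rw [Finset.mem_range] at hi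
      rw [hf, ← pow_succ', smul_smul, ← pow_succ']
      show _ = (x ^ (i + 1)) ⊗ₜ[A] (x ^ (n - (i + 1)) • m) - (x ^ i) ⊗ₜ[A] (x ^ (n - i) • m)
      rw [show n - 1 - i + 1 = n - i by omega, show n - 1 - i = n - (i + 1) by omega],
      Finset.sum_range_sub]
    simp [G, s]
  have h3 : ε ∘ₗ f = 0 := by
    refine TensorProduct.ext' fun q m => ?_
    rw [LinearMap.comp_apply, hf, map_sub, hε, hε, smul_smul, mul_comm, sub_self, LinearMap.zero_apply]
  refine ⟨fun y z hyz => ?_, fun y => ⟨fun hy => ⟨r y, ?_⟩, ?_⟩, fun m => ⟨s m, ?_⟩⟩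
  · simpa using (LinearMap.congr_fun h1 y).symm.trans ((congrArg r hyz).trans (LinearMap.congr_fun h1 z))
  · simpa [hy] using LinearMap.congr_fun h2 y
  · rintro ⟨z, rfl⟩
    exact LinearMap.congr_fun h3 z
  · simp [s, hε]

variable (φ : A →+* P) (x : P)

/-- Base change of a module from the coefficients. -/
noncomputable abbrev resExt (M : ModuleCat.{u} P) : ModuleCat.{u} P :=
  (ModuleCat.extendScalars.{u, u, u} φ).obj ((ModuleCat.restrictScalars.{u} φ).obj M)

/-- The endomorphism `q ⊗ m ↦ x q ⊗ m - q ⊗ x m`. -/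
noncomputable def shiftSub (M : ModuleCat.{u} P) : resExt φ M ⟶ resExt φ M :=
  (x • 𝟙 (resExt φ M)) -
    (ModuleCat.extendScalars.{u, u, u} φ).map ((ModuleCat.restrictScalars.{u} φ).map (x • 𝟙 M))

theorem shiftSub_naturality {M N : ModuleCat.{u} P} (g : M ⟶ N) :
    shiftSub φ x M ≫ (ModuleCat.extendScalars.{u, u, u} φ).map ((ModuleCat.restrictScalars.{u} φ).map g) =
      (ModuleCat.extendScalars.{u, u, u} φ).map ((ModuleCat.restrictScalars.{u} φ).map g) ≫ shiftSub φ x N := by
  rw [shiftSub, shiftSub, Preadditive.sub_comp, Preadditive.comp_sub, ← Functor.map_comp, ← Functor.map_comp,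
    ← Functor.map_comp, ← Functor.map_comp, Linear.smul_comp, Linear.comp_smul, Linear.smul_comp,
    Linear.comp_smul, Category.id_comp, Category.comp_id, Category.id_comp, Category.comp_id]

theorem exact_shiftSub (hbs : ∃ bs : @Module.Basis ℕ A P _ _ φ.toAlgebra.toModule, ∀ n, bs n = x ^ n)
    (M : ModuleCat.{u} P) :
    Function.Injective (shiftSub φ x M).hom ∧
      Function.Exact (shiftSub φ x M).hom ((ModuleCat.extendRestrictScalarsAdj φ).counit.app M).hom ∧
      Function.Surjective ((ModuleCat.extendRestrictScalarsAdj φ).counit.app M).hom := by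
  letI := φ.toAlgebra
  obtain ⟨bs, hbs⟩ := hbs
  letI : Module A M := Module.compHom M φ
  haveI : IsScalarTower A P M := IsScalarTower.of_algebraMap_smul fun _ _ => rfl
  refine exists_split x bs hbs M
    { toFun := fun z => (shiftSub φ x M).hom z
      map_add' := fun y z => (shiftSub φ x M).hom.map_add y z
      map_smul' := fun t z => by
        rw [← IsScalarTower.algebraMap_smul P t z, RingHom.id_apply]
        exact ((shiftSub φ x M).hom.map_smul (algebraMap A P t) z).trans
          (IsScalarTower.algebraMap_smul P (M := P ⊗[A] M) t _) }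
    { toFun := fun z => ((ModuleCat.extendRestrictScalarsAdj φ).counit.app M).hom z
      map_add' := fun y z => ((ModuleCat.extendRestrictScalarsAdj φ).counit.app M).hom.map_add y z
      map_smul' := fun t z => by
        rw [← IsScalarTower.algebraMap_smul P t z, RingHom.id_apply]
        exact ((ModuleCat.extendRestrictScalarsAdj φ).counit.app M).hom.map_smul (algebraMap A P t) z }
    (fun q m => ?_) (fun q m => ?_)
  · rfl
  · rfl

/-- The shift on complexes. -/
noncomputable def shiftSubCx (Y : DRing.Cx P) :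
    (extC' φ).obj ((resCx φ).obj Y) ⟶ (extC' φ).obj ((resCx φ).obj Y) where
  f i := shiftSub φ x (Y.X i)
  comm' i j _ := shiftSub_naturality φ x (Y.d i j)

/-- The counit on complexes. -/
noncomputable def counitCx (Y : DRing.Cx P) : (extC' φ).obj ((resCx φ).obj Y) ⟶ Y where
  f i := (ModuleCat.extendRestrictScalarsAdj φ).counit.app (Y.X i)
  comm' i j _ := ((ModuleCat.extendRestrictScalarsAdj φ).counit.naturality (Y.d i j)).symm

/-- Tor amplitude along a monogenic free algebra. -/
theorem of_monogenic (hφ : φ.Flat)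
    (hbs : ∃ bs : @Module.Basis ℕ A P _ _ φ.toAlgebra.toModule, ∀ n, bs n = x ^ n) (Y : DRing.Cx P)
    (h : DRing.HasTorAmplitudeIn A a b (DerivedCategory.Q.obj ((resCx φ).obj Y))) :
    DRing.HasTorAmplitudeIn P (a - 1) b (DerivedCategory.Q.obj Y) := by
  let E := (extC' φ).obj ((resCx φ).obj Y)
  have hE : DRing.HasTorAmplitudeIn P a b (DerivedCategory.Q.obj E) := TorAmpBC.ext_flat _ hφ h
  let S : ShortComplex (DRing.Cx P) := ShortComplex.mk (shiftSubCx φ x Y) (counitCx φ Y) (by
    ext i z
    exact (exact_shiftSub φ x hbs (Y.X i)).2.1.apply_apply_eq_zero z)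
  have hS : S.ShortExact := HomologicalComplex.shortExact_of_degreewise_shortExact _ fun i =>
    { exact := (ShortComplex.ShortExact.moduleCat_exact_iff_function_exact _).2 (exact_shiftSub φ x hbs (Y.X i)).2.1
      mono_f := (ModuleCat.mono_iff_injective _).2 (exact_shiftSub φ x hbs (Y.X i)).1
      epi_g := (ModuleCat.epi_iff_surjective _).2 (exact_shiftSub φ x hbs (Y.X i)).2.2 }
  exact DRingTor.obj₃_of _ (DerivedCategory.triangleOfSES_distinguished hS)
    (DRingTor.mono (K := DerivedCategory.Q.obj E) (by omega) (by omega) hE)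
    (DRingTor.mono (K := DerivedCategory.Q.obj E) (by omega) (by omega) hE)

end Monogenic

theorem exists_basis_polynomial (A : Type u) [CommRing A] :
    ∃ bs : @Module.Basis ℕ A (Polynomial A) _ _ (algebraMap A (Polynomial A)).toAlgebra.toModule,
      ∀ n, bs n = Polynomial.X ^ n := by
  rw [show (algebraMap A (Polynomial A)).toAlgebra = Polynomial.algebraOfAlgebra from
    Algebra.algebra_ext _ _ fun _ => rfl]
  exact ⟨Polynomial.basisMonomials A, fun n => by simp [Polynomial.coe_basisMonomials, Polynomial.X_pow_eq_monomial]⟩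

/-- Tor amplitude along a polynomial ring in `d` variables. -/
theorem of_mvPolynomial : ∀ (d : ℕ) (X : DRing.Cx (MvPolynomial (Fin d) A)),
    DRing.HasTorAmplitudeIn A a b (DerivedCategory.Q.obj
      ((resCx (algebraMap A (MvPolynomial (Fin d) A))).obj X)) →
    DRing.HasTorAmplitudeIn (MvPolynomial (Fin d) A) (a - d) b (DerivedCategory.Q.obj X) := by
  intro d
  induction d with
  | zero =>
    intro X h
    rw [Nat.cast_zero, sub_zero]
    exact torAmp_of_bijective _ ⟨MvPolynomial.C_injective _ _, MvPolynomial.C_surjective (Fin 0)⟩ h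
  | succ d ih =>
    intro X h
    let e : Polynomial (MvPolynomial (Fin d) A) →+* MvPolynomial (Fin (d + 1)) A :=
      (MvPolynomial.finSuccEquiv A d).symm.toRingEquiv.toRingHom
    have he : e.comp ((algebraMap (MvPolynomial (Fin d) A) (Polynomial (MvPolynomial (Fin d) A))).comp
        (algebraMap A (MvPolynomial (Fin d) A))) = algebraMap A (MvPolynomial (Fin (d + 1)) A) := by
      refine RingHom.ext fun r => ?_
      show (MvPolynomial.finSuccEquiv A d).symm (algebraMap A (Polynomial (MvPolynomial (Fin d) A)) r) = _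
      exact AlgEquiv.commutes _ r
    let Y := (resCx e).obj X
    have h' := torAmp_of_iso (DerivedCategory.Q.mapIso (TorAmpBC.resCompIso he X ≪≫
      TorAmpBC.resCompIso rfl ((resCx e).obj X))) h
    refine torAmp_of_bijective e (MvPolynomial.finSuccEquiv A d).symm.bijective ?_
    have h1 := of_monogenic _ Polynomial.X (RingHom.flat_algebraMap_iff.2 inferInstance)
      (exists_basis_polynomial _) Y (ih _ h')
    exact torAmp_mono (by push_cast; omega) le_rfl h1

/-- Tor amplitude along a standard smooth algebra. -/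
theorem of_standardSmooth [Algebra A B] (n : ℕ) [Algebra.IsStandardSmoothOfRelativeDimension n A B]
    (X : DRing.Cx B)
    (h : DRing.HasTorAmplitudeIn A a b (DerivedCategory.Q.obj ((resCx (algebraMap A B)).obj X))) :
    DRing.HasTorAmplitudeIn B (a - n) b (DerivedCategory.Q.obj X) := by
  obtain ⟨g, hg⟩ := Algebra.IsStandardSmoothOfRelativeDimension.exists_etale_mvPolynomial n A B
  have h' := torAmp_of_iso (DerivedCategory.Q.mapIso (TorAmpBC.resCompIso g.comp_algebraMap X)) h
  letI : Algebra (MvPolynomial (Fin n) A) B := g.toRingHom.toAlgebra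
  haveI : Algebra.Etale (MvPolynomial (Fin n) A) B := hg
  exact of_weaklyEtale X (of_mvPolynomial n _ h')

/-- Tor amplitude at a localization of a standard smooth algebra. -/
theorem of_standardSmooth_localization {Ap Bq : Type u} [CommRing Ap] [CommRing Bq] [Algebra A B] (n : ℕ)
    [Algebra.IsStandardSmoothOfRelativeDimension n A B] [Algebra B Bq] (S : Submonoid B) [IsLocalization S Bq]
    (α : A →+* Ap) (hα : α.Flat) (σ : Ap →+* Bq) (hσ : σ.comp α = (algebraMap B Bq).comp (algebraMap A B))
    (X : DRing.Cx Bq) (h : DRing.HasTorAmplitudeIn Ap a b (DerivedCategory.Q.obj ((resCx σ).obj X))) :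
    DRing.HasTorAmplitudeIn Bq (a - n) b (DerivedCategory.Q.obj X) := by
  refine TorAmpBC.of_res_localization S (of_standardSmooth (A := A) n _ ?_)
  exact torAmp_of_iso (DerivedCategory.Q.mapIso ((TorAmpBC.resCompIso hσ X).symm ≪≫
    TorAmpBC.resCompIso rfl X)) (TorAmpBC.res_flat α hα h)

end Groth.Agent.TorRise7
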